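import Cfsg.Agent.OM.Xc.C.Thirteen
import Cfsg.Agent.OM.Xc.A.St
import Cfsg.Agent.OM.Xc.B.Tool
import Cfsg.Agent.OM.Lo.N5
import Cfsg.Agent.BZ.X.RB2
import Cfsg.Agent.S2104
import Cfsg.Agent.S2109
import Cfsg.Agent.S2122

/-!
# OM (S4894), exceptional covers: `2.F₄(2)`, `2.²E₆(2)`, `6.²E₆(2)` at the primes three and five (helper72)
-/

set_option autoImplicit false
set_option linter.unusedSectionVars false

namespace Cfsg.Agent.OM.X13

open Cfsg Cfsg.Lie Subgroup Cfsg.Agent.OM.Lo Cfsg.Agent.OM.Alt Cfsg.Agent.BZ.X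

section gen

variable {S : Type} [Group S]

/-- the prime five -/
theorem cov_five (h : ¬ 125 ∣ Nat.card S) (ho : Od S) (hi : ∀ (X : Type) [Group X] [Finite X] (σ : X →* S) (M : Ideal AlgInt)
    (Γ : Subgroup (MulAut X)) (b : Set (IrrCharacter X)) (D : Subgroup X), Hyp 5 M Γ b D σ → 2 ∣ Nat.card (center X) →
      (Inn X).relIndex Γ ∣ 2) : CovX 2 5 S := fun X _ _ σ M Γ b D H hz => by
  rcases H.cases with ⟨h1, -⟩ | ⟨h1, -⟩ | ⟨-, h1⟩ | h1
  · omega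
  · omega
  · exact boxN5 M X Γ b D S σ H (hi X σ M Γ b D H hz) (boxHz 5 M X Γ b D S σ H (.inr (.inr ho))) h1
  · exact absurd (h1.trans H.dvd_card) h

/-- the prime three -/
theorem cov_three {A : Type} [CommGroup A] (hA : HasSchurMultiplier S A) (hm : ∀ a : A, a ^ 6 = 1) (hS : IsLieTypeChar 2 S)
    (hR : RB 3 3 S) {w : S} (h1 : orderOf w = 13) (h2 : Odd (Nat.card (centralizer ({w} : Set S))))
    (h3 : ∀ y, orderOf y = orderOf w → IsConj w y) (n f e : ℕ) {N : ℕ} (hN : Nat.card S = N) (hn : 2 ^ n ∣ N)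
    (hf : 3 ^ (f + 3) ∣ N) (he : 3 ^ e ∣ N) (hef : e ≤ 2 * (f + 1)) (hlt : N < 3 ^ e * (2 ^ n) ^ 2)
    (hi : ∀ (X : Type) [Group X] [Finite X] (σ : X →* S) (M : Ideal AlgInt)
    (Γ : Subgroup (MulAut X)) (b : Set (IrrCharacter X)) (D : Subgroup X), Hyp 3 M Γ b D σ → 2 ∣ Nat.card (center X) →
      (Inn X).relIndex Γ ∣ 2) : CovX 2 3 S := fun X _ _ σ M Γ b D H hz => by
  have : Fact (Nat.Prime 2) := ⟨Nat.prime_two⟩
  have : Fact (Nat.Prime 3) := ⟨Nat.prime_three⟩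
  rcases H.cases with ⟨h4, -⟩ | ⟨-, h4⟩ | ⟨h4, -⟩ | h4
  · omega
  · exact boxN3 M X Γ b D S σ H ((hi X σ M Γ b D H hz).trans (by decide)) h4
  · omega
  have h5 : Nat.card (center X) = 2 ^ 1 := Nat.dvd_antisymm (Nat.Coprime.dvd_of_dvd_mul_right (n := 3) (m := 2)
    (Nat.prime_three.coprime_iff_not_dvd.2 H.sit.ndvd).symm (XB.card_cen H hA hm)) hz
  exact (XA.no_st H (IsPGroup.of_card h5) hS (by decide) hR h4 (w := w) (by rw [h1]; decide) (by rw [h1]; decide) (t := 1)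
    (.inr h3) 0 n f e hN (by rw [one_mul]; exact h2.not_two_dvd_nat) hn hf he hef hlt).elim

end gen

theorem idx_f42 {F : Type} [Field F] [Fintype F] (hF : Fintype.card F = 2) {p : ℕ} {M : Ideal AlgInt} {X : Type} [Group X]
    [Finite X] {Γ : Subgroup (MulAut X)} {b : Set (IrrCharacter X)} {D : Subgroup X} {σ : X →* ↥(chevF4.group F)}
    (H : Hyp p M Γ b D σ) : (Inn X).relIndex Γ ∣ 2 :=
  have : Fact (Nat.Prime 2) := ⟨Nat.prime_two⟩
  have : CharP F 2 := charP_of_card_eq_prime hF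
  (boxIdx p M X Γ b D _ σ H).trans (S2122.result 2 1 hF).dvd

/-- **`2.F₄(2)`, `p = 3`** -/
theorem f42_3 (F : Type) [Field F] [Fintype F] (hF : Fintype.card F = 2) : CovX 2 3 ↥(chevF4.group F) :=
  have : Fact (Nat.Prime 2) := ⟨Nat.prime_two⟩
  let ⟨_, h1, h2, h3⟩ := od_f42 F hF
  cov_three (S2104.result hF) (by decide) (T2.lie_f4 F hF) (rb_f42 F hF) h1 h2 h3 24 3 6 (S1062.result hF) (by decide)
    (by decide) (by decide) (by decide) (by decide) fun _ _ _ _ _ _ _ _ H _ => idx_f42 hF H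

/-- **`2.F₄(2)`, `p = 5`** -/
theorem f42_5 (F : Type) [Field F] [Fintype F] (hF : Fintype.card F = 2) : CovX 2 5 ↥(chevF4.group F) :=
  let ⟨x, _, h⟩ := od_f42 F hF
  cov_five (by rw [S1062.result hF]; decide) ⟨x, h⟩ fun _ _ _ _ _ _ _ _ H _ => idx_f42 hF H

/-- **`2.²E₆(2)`, `p = 3`** -/
theorem e62_3 (K : Type) [Field K] [Fintype K] (hK : Fintype.card K = 4) : CovX 2 3 ↥(twistedE6 K 2) :=
  have : Fact (Nat.Prime 2) := ⟨Nat.prime_two⟩
  let ⟨_, h1, h2, h3⟩ := od_e62 K hK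
  cov_three (S2109.result hK) (by decide) (T2.lie_e6 K hK) (rb_e62 K hK) h1 h2 h3 36 6 9 (BM.HBFinal.card_E K hK) (by decide)
    (by decide) (by decide) (by decide) (by decide) fun _ _ _ _ _ _ _ _ H hz => idx_e62 hK H hz

/-- **`2.²E₆(2)` and `6.²E₆(2)`, `p = 5`** -/
theorem e62_5 (K : Type) [Field K] [Fintype K] (hK : Fintype.card K = 4) : CovX 2 5 ↥(twistedE6 K 2) :=
  let ⟨x, _, h⟩ := od_e62 K hK
  cov_five (by rw [BM.HBFinal.card_E K hK]; decide) ⟨x, h⟩ fun _ _ _ _ _ _ _ _ H hz => idx_e62 hK H hz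

end Cfsg.Agent.OM.X13
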